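import Cfsg.Agent.H83.BlockAlgebra
import Cfsg.Agent.H83.Decomp

/-!
The dimension of the corner of an integral idempotent in the group algebra over the residue field.
-/

set_option linter.style.haveILetI false

open scoped ComplexConjugate

namespace Cfsg.Agent.H80.RankOne

open H83 H83.BlockAlgebra MonoidAlgebra BlockBasic CharBasic

universe u

variable {p : ℕ} {M : Ideal Cfsg.AlgInt} {G : Type u} [Group G] [Fintype G]

/-- Two-sided multiplication. -/
noncomputable def sand {K : Type*} [Field K] {A : Type*} [Ring A] [Algebra K A] (a b : A) :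
    A →ₗ[K] A :=
  (LinearMap.mulLeft K a).comp (LinearMap.mulRight K b)

theorem sand_apply {K : Type*} [Field K] {A : Type*} [Ring A] [Algebra K A] (a b x : A) :
    sand (K := K) a b x = a * (x * b) := rfl

/-- The complement of the corner. -/
theorem finrank_sand_add {K : Type*} [Field K] {A : Type*} [Ring A] [Algebra K A]
    [FiniteDimensional K A] {z : A} (hz : z * z = z) :
    Module.finrank K (LinearMap.range (sand (K := K) z z)) +
      Module.finrank K (LinearMap.range (LinearMap.id - sand (K := K) z z)) =
        Module.finrank K A := by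
  have hPP : ∀ x : A, z * (z * (x * z) * z) = z * (x * z) := fun x => by
    simp only [← mul_assoc, hz]
    rw [mul_assoc (z * x), hz]
  have h : LinearMap.range (LinearMap.id - sand (K := K) z z) =
      LinearMap.ker (sand (K := K) z z) := by
    ext x
    simp only [LinearMap.mem_range, LinearMap.mem_ker, LinearMap.sub_apply, LinearMap.id_apply,
      sand_apply]
    constructor
    · rintro ⟨y, rfl⟩
      rw [sub_mul, mul_sub, hPP, sub_self]
    · exact fun hx => ⟨x, by rw [hx, sub_zero]⟩
  rw [h]
  exact LinearMap.finrank_range_add_finrank_ker _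

/-- Reductions of integral vectors which are independent have independent sources. -/
theorem finrank_span_red_le (hM : Cfsg.IsPModular p M) (w : G → MonoidAlgebra ℂ G)
    (hw : ∀ g, IsIntElt M (w g)) :
    Module.finrank (Residue hM) (Submodule.span (Residue hM) (Set.range fun g => red hM (w g))) ≤
      Module.finrank ℂ (Submodule.span ℂ (Set.range w)) := by
  classical
  haveI : Module.Finite (Residue hM) (MonoidAlgebra (Residue hM) G) :=
    Module.Finite.of_basis (MonoidAlgebra.basis G (Residue hM))
  haveI : Module.Finite ℂ (MonoidAlgebra ℂ G) :=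
    Module.Finite.of_basis (MonoidAlgebra.basis G ℂ)
  obtain ⟨s, hs, hspan, hli⟩ := exists_linearIndependent (Residue hM)
    (Set.range fun g => red hM (w g))
  haveI : Fintype s := ((Set.finite_range _).subset hs).fintype
  choose pre hpre using fun x : s => hs x.2
  have hliC : LinearIndependent ℂ fun x : s => w (pre x) := by
    let toF : MonoidAlgebra ℂ G →ₗ[ℂ] (G → ℂ) :=
      { toFun := fun v g => v.coeff g
        map_add' := fun a b => by funext g; simp
        map_smul' := fun c a => by funext g; simp }
    let toFk : MonoidAlgebra (Residue hM) G →ₗ[Residue hM] (G → Residue hM) :=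
      { toFun := fun v g => v.coeff g
        map_add' := fun a b => by funext g; simp
        map_smul' := fun c a => by funext g; simp }
    refine LinearIndependent.of_comp toF (linearIndependent_of_res hM (fun x g => hw (pre x) g) ?_)
    have h := hli.map' toFk (LinearMap.ker_eq_bot.2 fun a b h =>
      coeff_injective (Finsupp.ext fun g => congrFun h g))
    have heq : (⇑toFk ∘ fun x : s => (x : MonoidAlgebra (Residue hM) G)) =
        fun x g => res hM ((w (pre x)).coeff g) := by
      funext x g
      show ((x : MonoidAlgebra (Residue hM) G)).coeff g = _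
      rw [← hpre x, coeff_red]
    exact heq ▸ h
  rw [← hspan, finrank_span_set_eq_card hli, Set.toFinset_card, ← finrank_span_eq_card hliC]
  refine Submodule.finrank_mono (Submodule.span_mono ?_)
  rintro _ ⟨x, rfl⟩
  exact ⟨_, rfl⟩

/-- The images of the basis span the range. -/
theorem range_eq_span {K : Type*} [Field K] {V : Type*} [AddCommGroup V] [Module K V]
    (T : MonoidAlgebra K G →ₗ[K] V) :
    LinearMap.range T = Submodule.span K (Set.range fun g : G => T (single g 1)) := by
  rw [LinearMap.range_eq_map, ← (MonoidAlgebra.basis G K).span_eq, Submodule.map_span,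
    ← Set.range_comp]
  congr 2


/-- The sum of the squares of the values at an idempotent is the dimension of its corner. -/
theorem natCast_finrank_sand {η : MonoidAlgebra ℂ G} (hη : η * η = η) :
    (Module.finrank ℂ (LinearMap.range (sand (K := ℂ) η η)) : ℂ) =
      ∑ χ : Cfsg.IrrCharacter G, chiLin (χ : G → ℂ) η * chiLin (χ : G → ℂ) η := by
  classical
  haveI : Module.Finite ℂ (MonoidAlgebra ℂ G) :=
    Module.Finite.of_basis (MonoidAlgebra.basis G ℂ)
  have hproj : LinearMap.IsProj (LinearMap.range (sand (K := ℂ) η η)) (sand (K := ℂ) η η) :=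
    ⟨fun x => ⟨x, rfl⟩, by
      rintro _ ⟨y, rfl⟩
      simp only [sand_apply, ← mul_assoc, hη]
      rw [mul_assoc (η * y), hη]⟩
  rw [← hproj.trace, LinearMap.trace_eq_matrix_trace ℂ (MonoidAlgebra.basis G ℂ), Matrix.trace]
  have hdiag : ∀ g : G, Matrix.diag (LinearMap.toMatrix (MonoidAlgebra.basis G ℂ)
      (MonoidAlgebra.basis G ℂ) (sand (K := ℂ) η η)) g =
      ∑ b : G, η.coeff b * η.coeff (g * b⁻¹ * g⁻¹) := fun g => by
    rw [Matrix.diag_apply, LinearMap.toMatrix_apply, MonoidAlgebra.basis_apply, sand_apply]
    show (η * (single g 1 * η)).coeff g = _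
    conv_lhs => rw [show single g (1 : ℂ) * η = ∑ b : G, single (g * b) (η.coeff b) by
      conv_lhs => rw [← MonoidAlgebra.sum_coeff_single η]
      rw [Finsupp.sum_fintype _ _ (by simp), Finset.mul_sum]
      simp only [single_mul_single, one_mul]]
    rw [Finset.mul_sum, coeff_sum, Finsupp.finsetSum_apply]
    refine Finset.sum_congr rfl fun b _ => ?_
    rw [coeff_mul_single_apply, mul_comm, mul_inv_rev, mul_assoc]
  simp only [hdiag]
  have hconj : ∀ (χ : Cfsg.IrrCharacter G) (b : G),
      conj ((χ : G → ℂ) b⁻¹) = (χ : G → ℂ) b := fun χ b => by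
    rw [conj_apply_eq_inv, inv_inv]
  calc ∑ g : G, ∑ b : G, η.coeff b * η.coeff (g * b⁻¹ * g⁻¹)
      = ∑ b : G, η.coeff b * ∑ h, η.coeff h * (Nat.card {x : G // x * b⁻¹ * x⁻¹ = h} : ℂ) := by
        rw [Finset.sum_comm]
        refine Finset.sum_congr rfl fun b _ => ?_
        rw [← Finset.mul_sum]
        congr 1
        have : ∀ h : G, η.coeff h * (Nat.card {x : G // x * b⁻¹ * x⁻¹ = h} : ℂ) =
            ∑ x : G, if x * b⁻¹ * x⁻¹ = h then η.coeff h else 0 := fun h => by
          rw [Nat.card_eq_fintype_card, Fintype.card_subtype, ← Finset.sum_filter,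
            Finset.sum_const, nsmul_eq_mul, mul_comm]
        simp only [this]
        rw [Finset.sum_comm]
        simp
    _ = _ := by
        simp only [sum_conjTransporter_coeff, hconj, Finset.mul_sum]
        rw [Finset.sum_comm]
        refine Finset.sum_congr rfl fun χ _ => ?_
        rw [show chiLin (χ : G → ℂ) η * chiLin (χ : G → ℂ) η =
          chiLin (χ : G → ℂ) η * ∑ b, η.coeff b * (χ : G → ℂ) b from rfl, Finset.mul_sum]
        exact Finset.sum_congr rfl fun b _ => by ring

set_option maxHeartbeats 800000 in
/-- The dimension of the reduced corner. -/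
theorem natCast_finrank_corner (hM : Cfsg.IsPModular p M) {η : MonoidAlgebra ℂ G}
    (hηi : IsIntElt M η) (hη : η * η = η) :
    (Module.finrank (Residue hM)
      (LinearMap.range (sand (K := Residue hM) (red hM η) (red hM η))) : ℂ) =
      ∑ χ : Cfsg.IrrCharacter G, chiLin (χ : G → ℂ) η * chiLin (χ : G → ℂ) η := by
  classical
  haveI : Module.Finite (Residue hM) (MonoidAlgebra (Residue hM) G) :=
    Module.Finite.of_basis (MonoidAlgebra.basis G (Residue hM))
  haveI : Module.Finite ℂ (MonoidAlgebra ℂ G) :=
    Module.Finite.of_basis (MonoidAlgebra.basis G ℂ)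
  have hidk : red hM η * red hM η = red hM η := by rw [← red_mul hM hηi hηi, hη]
  have hs : ∀ g : G, IsIntElt M (η * (single g 1 * η)) := fun g =>
    hηi.mul hM ((isIntElt_single hM g (locRing hM).one_mem).mul hM hηi)
  have hgen : ∀ g : G, red hM (η * (single g 1 * η)) =
      sand (K := Residue hM) (red hM η) (red hM η) (single g 1) := fun g => by
    rw [red_mul hM hηi ((isIntElt_single hM g (locRing hM).one_mem).mul hM hηi),
      red_mul hM (isIntElt_single hM g (locRing hM).one_mem) hηi, red_single, sand_apply]
  have h1 := finrank_span_red_le hM (fun g => η * (single g 1 * η)) hs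
  have h2 := finrank_span_red_le hM (fun g => single g 1 - η * (single g 1 * η))
    (fun g => (isIntElt_single hM g (locRing hM).one_mem).sub hM (hs g))
  have hgen2 : ∀ g : G, red hM (single g 1 - η * (single g 1 * η)) =
      ((LinearMap.id : MonoidAlgebra (Residue hM) G →ₗ[Residue hM] _) -
        sand (K := Residue hM) (red hM η) (red hM η)) (single g 1) := fun g => by
    rw [Star.red_sub' hM (isIntElt_single hM g (locRing hM).one_mem) (hs g), red_single, hgen,
      LinearMap.sub_apply, LinearMap.id_apply]
  beta_reduce at h1 h2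
  rw [funext hgen] at h1
  rw [funext hgen2] at h2
  rw [← range_eq_span] at h1 h2
  have hr1 := range_eq_span (sand (K := ℂ) η η)
  have hr2 := range_eq_span ((LinearMap.id : MonoidAlgebra ℂ G →ₗ[ℂ] _) - sand (K := ℂ) η η)
  simp only [LinearMap.sub_apply, LinearMap.id_apply, sand_apply] at hr1 hr2
  rw [← hr1] at h1
  rw [← hr2] at h2
  have e1 := finrank_sand_add (K := Residue hM) hidk
  have e2 := finrank_sand_add (K := ℂ) hη
  have e3 : Module.finrank (Residue hM) (MonoidAlgebra (Residue hM) G) =
      Module.finrank ℂ (MonoidAlgebra ℂ G) := by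
    rw [Module.finrank_eq_card_basis (MonoidAlgebra.basis G (Residue hM)),
      Module.finrank_eq_card_basis (MonoidAlgebra.basis G ℂ)]
  rw [show Module.finrank (Residue hM)
      (LinearMap.range (sand (K := Residue hM) (red hM η) (red hM η))) =
      Module.finrank ℂ (LinearMap.range (sand (K := ℂ) η η)) by omega,
    natCast_finrank_sand hη]

end Cfsg.Agent.H80.RankOne
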