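import Cfsg.Agent.H80.RankOne.Corner
import Cfsg.Agent.H80.LocalSym
import Cfsg.Agent.H24.BlockRankOne
import Cfsg.Agent.H86.PrincipalRegular

/-!
A block of rank one with at most four characters has as many characters as its defect group has
elements (Külshammer).
-/

set_option linter.style.haveILetI false

open scoped ComplexConjugate

namespace Cfsg.Agent.H80.RankOne

open H83 H83.BlockAlgebra H83.SimpleTrace MonoidAlgebra BlockBasic CharBasic

universe u

variable {p : ℕ} [hp : Fact p.Prime] {M : Ideal Cfsg.AlgInt} {G : Type u} [Group G] [Fintype G]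
  {B : Set (Cfsg.IrrCharacter G)}

omit hp [Fintype G] in
/-- The trace functions of the group. -/
theorem tr_eq_sum {k : Type*} [Field k] [Fintype G] (W : Model k G) (i : Fin W.num)
    (z : MonoidAlgebra k G) : W.tr i z = ∑ y, z.coeff y * W.tr i (single y 1) := by
  conv_lhs => rw [← MonoidAlgebra.sum_coeff_single z]
  rw [Finsupp.sum_fintype _ _ (by simp), map_sum]
  refine Finset.sum_congr rfl fun y _ => ?_
  rw [show single y (z.coeff y) = z.coeff y • single y (1 : k) by simp, map_smul, smul_eq_mul]

/-- Exactly one simple factor lies in a block of rank one. -/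
theorem exists_unique_factor (hM : Cfsg.IsPModular p M) (hB : Cfsg.IsPBlock M B)
    (hl : Cfsg.blockRank p B = 1) (W : Model (Residue hM) G) :
    ∃ i, W.map (red hM (blockElem B)) = Pi.single i 1 := by
  classical
  set E := red hM (blockElem B) with hE
  have hei := isIntElt_blockElem hM hB
  have hEE : E * E = E := by rw [hE, ← red_mul hM hei hei, blockElem_idem]
  have hEc : ∀ z, E * z = z * E := H86.PrimeOrder.red_blockElem_comm hM hB
  -- scalars
  have hsc : ∀ i, W.map E i = 0 ∨ W.map E i = 1 := by
    intro i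
    haveI := W.dim_ne i
    rcases W.central_idem i hEE hEc with h | h
    · left
      ext a b
      obtain ⟨w, hw⟩ := W.exists_preimage_single i b a
      have h1 := h w
      rw [W.tr_apply, map_mul, hw, Pi.mul_apply, Pi.single_eq_same, Matrix.trace_mul_comm,
        Matrix.trace_single_mul] at h1
      simpa using h1
    · right
      ext a b
      obtain ⟨w, hw⟩ := W.exists_preimage_single i b a
      have h1 := h w
      rw [W.tr_apply, W.tr_apply, map_mul, hw, Pi.mul_apply, Pi.single_eq_same, Matrix.trace_mul_comm,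
        Matrix.trace_single_mul] at h1
      rw [Matrix.one_apply]
      by_cases hab : a = b
      · subst hab
        rw [if_pos rfl]
        simpa [Matrix.trace_single_eq_same] using h1
      · rw [if_neg hab]
        simpa [Matrix.trace_single_eq_of_ne _ _ _ (Ne.symm hab)] using h1
  obtain ⟨i, hi⟩ : ∃ i, W.map E i ≠ 0 := by
    by_contra hno
    push Not at hno
    obtain ⟨N, hN⟩ := W.nil E (funext hno)
    refine red_blockElem_ne_zero hM hB ?_
    rw [← hE, ← (show IsIdempotentElem E from hEE).pow_succ_eq (n := N), pow_succ, hN,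
      zero_mul]
  have hi1 : W.map E i = 1 := (hsc i).resolve_left hi
  refine ⟨i, funext fun j => ?_⟩
  by_cases hji : j = i
  · subst hji; rw [Pi.single_eq_same, hi1]
  rw [Pi.single_eq_of_ne hji]
  refine (hsc j).resolve_right fun hj => ?_
  have hfix : ∀ l, W.map E l = 1 → ∀ g, ∑ y, (E * single g 1).coeff y * W.tr l (single y 1) =
      W.tr l (single g 1) := fun l hl g => by
    rw [← tr_eq_sum, W.tr_apply, map_mul, Pi.mul_apply, hl, one_mul, W.tr_apply]
  let t : Bool → G → Residue hM := fun b g => W.tr (if b then i else j) (single g 1)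
  have hti : LinearIndependent (Residue hM) fun b (g : {g : G // ¬ p ∣ orderOf g}) => t b g := by
    rw [Fintype.linearIndependent_iff]
    intro a ha b
    have hall : ∀ z, ∑ b, a b * W.tr (if b then i else j) z = 0 := by
      intro z
      induction z using MonoidAlgebra.induction_linear with
      | zero => simp
      | add z w hz hw => simp only [map_add, mul_add, Finset.sum_add_distrib, hz, hw, add_zero]
      | single g r =>
        have h0 := congrFun ha ⟨pReg (p := p) g, not_dvd_orderOf_pReg g⟩
        simp only [Finset.sum_apply, Pi.smul_apply, smul_eq_mul, Pi.zero_apply, t] at h0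
        simp only [← W.tr_pReg (p := p) (Star.residue_p_eq_zero hM)] at h0
        rw [show single g r = r • single g (1 : Residue hM) by simp]
        simp only [map_smul, smul_eq_mul]
        rw [Finset.sum_congr rfl fun b _ => mul_left_comm (a b) r _, ← Finset.mul_sum, h0, mul_zero]
    have h2 := W.tr_independent (a := fun l => if l = i then a true else if l = j then a false else 0)
      (fun z => by
        refine Eq.trans ?_ (hall z)
        rw [Fintype.sum_bool, Finset.sum_eq_add i j (Ne.symm hji)
          (fun l _ hl => by simp [hl.1, hl.2]) (by simp) (by simp)]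
        simp [hji]) (if b then i else j)
    cases b <;> simpa [hji, Ne.symm hji] using h2
  have h := H86.PrimeOrder.card_le_finrank_regular hM hB t (fun b g x => W.tr_conj _ g x) hti
    (fun b => hfix _ (by cases b <;> assumption))
  have h2 : Module.finrank ℂ (Submodule.span ℂ (Set.range
      fun (χ : {χ : Cfsg.IrrCharacter G // χ ∈ B}) (g : {g : G // ¬ p ∣ orderOf g}) =>
        (χ.1 : G → ℂ) g)) ≤ 1 := by
    refine le_trans ?_ hl.le
    rw [Cfsg.blockRank]
    let res' : (G → ℂ) →ₗ[ℂ] ({g : G // ¬ p ∣ orderOf g} → ℂ) :=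
      { toFun := fun F g => F g
        map_add' := fun _ _ => rfl
        map_smul' := fun _ _ => rfl }
    refine le_trans (le_of_eq ?_) (Submodule.finrank_map_le res' _)
    rw [Submodule.map_span, Set.image_image, Set.image_eq_range]
    exact congrArg (fun F : {χ : Cfsg.IrrCharacter G // χ ∈ B} → _ =>
      Module.finrank ℂ (Submodule.span ℂ (Set.range F)))
      (funext fun χ => funext fun g => (pRegularPart_eq_self _ g.2).symm)
  simp at h
  omega

set_option maxHeartbeats 800000 in
/-- The number of characters equals the order of the defect group. -/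
theorem card_eq_pow (hM : Cfsg.IsPModular p M) (hB : Cfsg.IsPBlock M B)
    (hl : Cfsg.blockRank p B = 1) (hk : Nat.card B ≤ 4) :
    Nat.card B = p ^ Cfsg.blockDefect p B := by
  classical
  haveI : IsAlgClosed (Residue hM) := isAlgClosed_residue hM
  haveI : Module.Finite (Residue hM) (MonoidAlgebra (Residue hM) G) :=
    Module.Finite.of_basis (MonoidAlgebra.basis G (Residue hM))
  obtain ⟨W⟩ := SimpleTrace.exists_model (k := Residue hM) (G := G)
  obtain ⟨ε, hε⟩ := Decomp.exists_family (p := p) hM W
  obtain ⟨i, hEi⟩ := exists_unique_factor hM hB hl W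
  have hei := isIntElt_blockElem hM hB
  set E := red hM (blockElem B) with hE
  have hEE : E * E = E := by rw [hE, ← red_mul hM hei hei, blockElem_idem]
  have hEc : ∀ z, E * z = z * E := H86.PrimeOrder.red_blockElem_comm hM hB
  -- the idempotent
  set η := blockElem B * ε i with hη
  have hbc := isCentralElt_comm (isCentralElt_blockElem (G := G) B)
  have hηη : η * η = η := by
    calc η * η = blockElem B * ((ε i * blockElem B) * ε i) := by simp only [hη, mul_assoc]
      _ = blockElem B * ((blockElem B * ε i) * ε i) := by rw [← hbc]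
      _ = (blockElem B * blockElem B) * (ε i * ε i) := by simp only [mul_assoc]
      _ = η := by rw [blockElem_idem, (hε i).1]
  have hηi : IsIntElt M η := hei.mul hM (hε i).2.1
  set f := red hM η with hf
  have hmf : W.map f = Decomp.unitAt hM W i := by
    rw [hf, hη, red_mul hM hei (hε i).2.1, map_mul, hEi, (hε i).2.2, Decomp.unitAt, ← Pi.single_mul,
      one_mul]
  have hff : f * f = f := by rw [hf, ← red_mul hM hηi hηi, hηη]
  have hfE : f * E = f := by
    rw [← hEc, hE, hf, ← red_mul hM hei hηi, hη, ← mul_assoc, blockElem_idem]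
  -- the corner
  set A := LinearMap.range (sand (K := Residue hM) f f) with hA
  set J := A ⊓ LinearMap.ker W.map.toLinearMap with hJ
  have hAmem : ∀ {a}, a ∈ A → f * a = a ∧ a * f = a := by
    rintro _ ⟨z, rfl⟩
    rw [sand_apply]
    constructor
    · rw [← mul_assoc, hff]
    · simp only [mul_assoc, hff]
  have hAof : ∀ {a}, f * a = a → a * f = a → a ∈ A := fun {a} h1 h2 =>
    ⟨a, by rw [sand_apply, h2, h1]⟩
  have hJJ : J * J ≤ J := Submodule.mul_le.2 fun a ha b hb => by
    refine ⟨hAof ?_ ?_, ?_⟩
    · rw [← mul_assoc, (hAmem ha.1).1]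
    · rw [mul_assoc, (hAmem hb.1).2]
    · show W.map (a * b) = 0
      rw [map_mul, show W.map a = 0 from ha.2, zero_mul]
  -- nilpotent
  haveI : IsArtinianRing (MonoidAlgebra (Residue hM) G) :=
    IsArtinianRing.of_finite (Residue hM) (MonoidAlgebra (Residue hM) G)
  obtain ⟨N, hN⟩ : ∃ N, J ^ N = ⊥ := by
    obtain ⟨N, hN⟩ := IsSemiprimaryRing.isNilpotent (R := MonoidAlgebra (Residue hM) G)
    refine ⟨N, (Submodule.eq_bot_iff _).2 fun z hz => ?_⟩
    have hjac : ∀ x ∈ J, x ∈ Ring.jacobson (MonoidAlgebra (Residue hM) G) := by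
      intro x hx
      rw [← Ideal.jacobson_bot, Ideal.mem_jacobson_iff]
      intro y
      obtain ⟨u, hu⟩ := (IsNilpotent.isUnit_one_add (W.nil (y * x) (by
        rw [map_mul, show W.map x = 0 from hx.2, mul_zero])))
      refine ⟨↑u⁻¹, ?_⟩
      have h1 : (↑u⁻¹ : MonoidAlgebra (Residue hM) G) * y * x + ↑u⁻¹ - 1 =
          ↑u⁻¹ * (1 + y * x) - 1 := by
        rw [mul_add, mul_one, mul_assoc]
        abel
      rw [h1, ← hu, Units.inv_mul, sub_self]
      exact Submodule.zero_mem _
    have hp : ∀ n, ∀ z ∈ J ^ n, z ∈ (Ring.jacobson (MonoidAlgebra (Residue hM) G)) ^ n := by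
      intro n
      induction n with
      | zero => intro z _; rw [Submodule.pow_zero, Ideal.one_eq_top]; trivial
      | succ n ih =>
        intro z hz
        rw [pow_succ] at hz
        induction hz using Submodule.mul_induction_on' with
        | mem_mul_mem a ha b hb => rw [Submodule.pow_succ]; exact Submodule.mul_mem_mul (ih a ha) (hjac b hb)
        | add x _ y _ hx hy => exact Ideal.add_mem _ hx hy
    have := hp N z hz
    rw [hN] at this
    exact this
  -- codimension one
  haveI := W.dim_ne i
  have hcodim : A ≤ Submodule.span (Residue hM) {f} ⊔ J := by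
    intro a ha
    have hfa : f ∈ A := hAof hff hff
    refine Submodule.mem_sup.2 ⟨W.map a i 0 0 • f, Submodule.smul_mem _ _
      (Submodule.mem_span_singleton_self f), a - W.map a i 0 0 • f,
      ⟨sub_mem ha (A.smul_mem _ hfa), ?_⟩, by abel⟩
    show W.map (a - _) = 0
    rw [map_sub, map_smul, hmf, sub_eq_zero]
    conv_lhs => rw [← (hAmem ha).1, ← (hAmem ha).2, map_mul, map_mul, hmf]
    funext l
    by_cases hl : l = i
    · subst hl
      simp only [Decomp.unitAt, Pi.mul_apply, Pi.smul_apply, Pi.single_eq_same]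
      rw [← Matrix.mul_assoc, Matrix.single_mul_mul_single, one_mul, mul_one, Matrix.smul_single,
        smul_eq_mul, mul_one]
    · simp [Decomp.unitAt, Pi.single_eq_of_ne hl]
  have hJle : J ≤ A := inf_le_left
  have hdimA : Module.finrank (Residue hM) A ≤ Module.finrank (Residue hM) J + 1 := by
    refine (Submodule.finrank_mono hcodim).trans
      ((Submodule.finrank_add_le_finrank_add_finrank _ _).trans ?_)
    have := LocalSym.finrank_span_singleton_le (k := Residue hM) f
    omega
  have hdimJ : Module.finrank (Residue hM) J + 1 ≤ Module.finrank (Residue hM) A := by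
    refine Submodule.finrank_lt_finrank_of_lt (lt_of_le_not_ge hJle fun h => ?_)
    have h1 : W.map f = 0 := (h (hAof hff hff)).2
    rw [hmf, Decomp.unitAt] at h1
    have h2 := congrFun (congrFun (congrFun h1 i) 0) 0
    rw [Pi.single_eq_same, Matrix.single_apply_same] at h2
    exact one_ne_zero h2
  -- commutators
  have hcomm : LocalSym.comm A ≤ LocalSym.comm J := by
    refine Submodule.span_le.2 ?_
    rintro _ ⟨a, ha, b, hb, rfl⟩
    obtain ⟨a1, ha1, a2, ha2, rfl⟩ := Submodule.mem_sup.1 (hcodim ha)
    obtain ⟨b1, hb1, b2, hb2, rfl⟩ := Submodule.mem_sup.1 (hcodim hb)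
    obtain ⟨r, rfl⟩ := Submodule.mem_span_singleton.1 ha1
    obtain ⟨s, rfl⟩ := Submodule.mem_span_singleton.1 hb1
    refine Submodule.subset_span ⟨a2, ha2, b2, hb2, ?_⟩
    simp only [mul_add, add_mul, smul_mul_assoc, mul_smul_comm, (hAmem (hJle ha2)).1,
      (hAmem (hJle ha2)).2, (hAmem (hJle hb2)).1, (hAmem (hJle hb2)).2, hff, smul_add, smul_smul]
    rw [mul_comm s r]
    abel
  -- the block is generated by the idempotent
  obtain ⟨x, hx⟩ : ∃ x : Fin (W.dim i) → MonoidAlgebra (Residue hM) G,
      ∀ a, W.map (x a) = Pi.single i (Matrix.single a 0 1) := ⟨fun a => (W.surj _).choose,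
    fun a => (W.surj _).choose_spec⟩
  obtain ⟨y, hy⟩ : ∃ y : Fin (W.dim i) → MonoidAlgebra (Residue hM) G,
      ∀ a, W.map (y a) = Pi.single i (Matrix.single 0 a 1) := ⟨fun a => (W.surj _).choose,
    fun a => (W.surj _).choose_spec⟩
  set u := ∑ a, x a * f * y a with hu
  set v := u * E - E with hv
  have hvnil : IsNilpotent v := by
    refine W.nil v ?_
    rw [hv, map_sub, map_mul, hEi, hu, map_sum]
    simp only [map_mul, hx, hy, hmf, Decomp.unitAt, ← Pi.single_mul,
      Matrix.single_mul_single_same, one_mul]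
    rw [Finset.sum_mul]
    simp only [← Pi.single_mul, mul_one]
    rw [show ∑ a, Pi.single (M := fun l => Matrix (Fin (W.dim l)) (Fin (W.dim l)) (Residue hM)) i
        (Matrix.single a a (1 : Residue hM)) = Pi.single i (∑ a, Matrix.single a a 1) from
      (map_sum (AddMonoidHom.single
        (fun l => Matrix (Fin (W.dim l)) (Fin (W.dim l)) (Residue hM)) i) _ _).symm, sub_eq_zero]
    refine congrArg (Pi.single (M := fun l => Matrix (Fin (W.dim l)) (Fin (W.dim l)) (Residue hM)) i)
      (Matrix.ext fun a b => ?_)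
    rw [Matrix.sum_apply, Matrix.one_apply]
    by_cases hab : a = b
    · subst hab
      rw [if_pos rfl, Finset.sum_eq_single a] <;> simp +contextual
    · rw [if_neg hab]
      refine Finset.sum_eq_zero fun l _ => ?_
      by_cases hl : l = a
      · subst hl; simp [hab]
      · simp [hl]
  obtain ⟨w, hw⟩ := hvnil.isUnit_one_add
  have hwE : E * (↑w⁻¹ : MonoidAlgebra (Residue hM) G) = ↑w⁻¹ * E := hEc _
  have hvE : E * v = v := by
    rw [hv, mul_sub, hEE, ← mul_assoc, hEc u, mul_assoc, hEE]
  have hgen : E = ∑ a, x a * f * (y a * E * ↑w⁻¹) := by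
    have h1 : E * (1 + v) = u * E := by rw [mul_add, mul_one, hvE, hv]; abel
    calc E = E * (1 + v) * ↑w⁻¹ := by rw [← hw, mul_assoc, Units.mul_inv, mul_one]
      _ = u * E * ↑w⁻¹ := by rw [h1]
      _ = _ := by simp only [hu, Finset.sum_mul, mul_assoc]
  set y' := fun a => y a * E * (↑w⁻¹ : MonoidAlgebra (Residue hM) G) with hy'
  have hy'E : ∀ a, y' a * E = y' a := fun a => by
    simp only [hy']
    rw [mul_assoc (y a * E), ← hwE, ← mul_assoc, mul_assoc (y a) E E, hEE]
  -- the extension of forms
  let ext' : MonoidAlgebra (Residue hM) G →ₗ[Residue hM] MonoidAlgebra (Residue hM) G :=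
    ∑ a, sand (K := Residue hM) (f * y' a) (x a * f)
  have hext : ∀ z, ext' z = ∑ a, f * y' a * (z * (x a * f)) := fun z => by
    simp [ext', LinearMap.sum_apply, sand_apply]
  have hinA : ∀ z z', f * z * (z' * f) ∈ A := fun z z' =>
    hAof (by simp only [← mul_assoc, hff]) (by simp only [mul_assoc, hff])
  have hextsym : ∀ z z', ext' (z * z') - ext' (z' * z) ∈ LocalSym.comm A := by
    intro z z'
    have hexp : ∀ s s', ext' (s * s') =
        ∑ a, ∑ b, (f * (y' a * s * x b) * f) * (f * (y' b * s' * x a) * f) := by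
      intro s s'
      rw [hext]
      refine Finset.sum_congr rfl fun a _ => ?_
      conv_lhs => rw [← hy'E a]
      rw [show f * (y' a * E) * (s * s' * (x a * f)) =
        f * y' a * ((E * s) * s' * (x a * f)) by simp only [mul_assoc], hEc s]
      conv_lhs => rw [hgen]
      simp only [Finset.mul_sum, Finset.sum_mul]
      refine Finset.sum_congr rfl fun b _ => ?_
      simp only [hy', mul_assoc]
      rw [← mul_assoc f f, hff]
    rw [hexp, hexp, Finset.sum_comm (γ := Fin (W.dim i)) (f := fun a b =>
      (f * (y' a * z' * x b) * f) * (f * (y' b * z * x a) * f)), ← Finset.sum_sub_distrib]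
    refine Submodule.sum_mem _ fun a _ => ?_
    rw [← Finset.sum_sub_distrib]
    refine Submodule.sum_mem _ fun b _ => Submodule.subset_span ⟨_, hAof ?_ ?_, _, hAof ?_ ?_, rfl⟩
    all_goals simp only [mul_assoc, hff]
    all_goals rw [← mul_assoc f f, hff]
  have hextA : ∀ a ∈ A, ext' a - a ∈ LocalSym.comm A := by
    intro a ha
    have h1 : a = ∑ b, a * (f * x b * f) * (f * y' b * f) := by
      calc a = a * (f * E * f) := by rw [hfE, hff, (hAmem ha).2]
        _ = _ := by
          conv_lhs => rw [hgen]
          simp only [Finset.mul_sum, Finset.sum_mul]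
          refine Finset.sum_congr rfl fun b _ => ?_
          simp only [hy', mul_assoc]
          rw [← mul_assoc f f, hff]
    have h2 : ext' a = ∑ b, (f * y' b * f) * (a * (f * x b * f)) := by
      rw [hext]
      refine Finset.sum_congr rfl fun b _ => ?_
      simp only [mul_assoc]
      rw [← mul_assoc a f, (hAmem ha).2, ← mul_assoc f a, (hAmem ha).1]
    rw [show ext' a - a = (∑ b, (f * y' b * f) * (a * (f * x b * f))) -
        ∑ b, a * (f * x b * f) * (f * y' b * f) by rw [← h2, ← h1], ← Finset.sum_sub_distrib]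
    refine Submodule.sum_mem _ fun b _ => Submodule.subset_span ⟨_, hAof ?_ ?_, _, hAof ?_ ?_, rfl⟩
    · simp only [← mul_assoc, hff]
    · simp only [mul_assoc, hff]
    · rw [← mul_assoc, (hAmem ha).1]
    · simp only [mul_assoc, hff]
  have hextE : ∀ z, ext' (E * z) = ext' z := fun z => by
    rw [hext, hext]
    refine Finset.sum_congr rfl fun a _ => ?_
    conv_rhs => rw [← hy'E a]
    simp only [mul_assoc]
  -- the dimension bound
  set K := LocalSym.comm A with hK
  set Q := A.map K.mkQ with hQ
  have hKA : K ≤ A := Submodule.span_le.2 fun z hz => by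
    obtain ⟨a, ha, b, hb, rfl⟩ := hz
    refine sub_mem (hAof ?_ ?_) (hAof ?_ ?_)
    · rw [← mul_assoc, (hAmem ha).1]
    · rw [mul_assoc, (hAmem hb).2]
    · rw [← mul_assoc, (hAmem hb).1]
    · rw [mul_assoc, (hAmem ha).2]
  have hQdim : Module.finrank (Residue hM) Q + Module.finrank (Residue hM) K =
      Module.finrank (Residue hM) A := by
    have h := LinearMap.finrank_range_add_finrank_ker (K.mkQ.domRestrict A)
    rw [LinearMap.range_domRestrict, LinearMap.ker_domRestrict, Submodule.ker_mkQ] at h
    rw [← h, (Submodule.comapSubtypeEquivOfLe hKA).finrank_eq]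
  have hbound : Module.finrank (Residue hM) Q ≤ Nat.card B := by
    by_contra hlt
    push Not at hlt
    obtain ⟨β⟩ : Nonempty (Module.Basis (Fin (Module.finrank (Residue hM) Q)) (Residue hM) Q) :=
      ⟨Module.finBasis (Residue hM) Q⟩
    choose μ hμ using fun l => (β.coord l).exists_extend
    let φ : Fin (Module.finrank (Residue hM) Q) →
        (MonoidAlgebra (Residue hM) G →ₗ[Residue hM] Residue hM) :=
      fun l => (μ l).comp (K.mkQ.comp ext')
    have hφK : ∀ l z z', z - z' ∈ K → μ l (K.mkQ z) = μ l (K.mkQ z') := fun l z z' h => by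
      rw [show K.mkQ z = K.mkQ z' from (Submodule.Quotient.eq K).2 h]
    obtain ⟨cf, hc0, hc⟩ := trace_forms_dependent hM hB hlt φ
      (fun l s s' => hφK l _ _ (hextsym s s')) (fun l s => congrArg (fun z => μ l (K.mkQ z)) (hextE s))
    refine hc0 (funext fun l => ?_)
    obtain ⟨a, ha, hal⟩ := (β l).2
    have h1 := hc a
    have h3 : ∀ l', φ l' a = if l = l' then 1 else 0 := fun l' => by
      show μ l' (K.mkQ (ext' a)) = _
      rw [hφK l' _ _ (hextA a ha), hal,
        show μ l' (β l : MonoidAlgebra (Residue hM) G ⧸ K) = β.coord l' (β l) from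
          LinearMap.congr_fun (hμ l') (β l)]
      simp [Module.Basis.coord_apply, Finsupp.single_apply]
    simpa [h3] using h1
  -- commutativity
  have hKJ := Submodule.finrank_mono hcomm
  let t : MonoidAlgebra (Residue hM) G →ₗ[Residue hM] Residue hM :=
    { toFun := fun z => z.coeff 1
      map_add' := fun z z' => by simp
      map_smul' := fun r z => by simp }
  have htsym : ∀ z z', t (z * z') = t (z' * z) := fun z z' => by
    induction z using MonoidAlgebra.induction_linear with
    | zero => simp
    | add a b ha hb => rw [add_mul, mul_add, map_add, map_add, ha, hb]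
    | single g r =>
      show (single g r * z').coeff 1 = (z' * single g r).coeff 1
      rw [coeff_single_mul_apply, coeff_mul_single_apply, one_mul, mul_one, mul_comm]
  have hcom := LocalSym.commute_of_finrank_le J hJJ hN t (fun a _ b _ => htsym a b)
    (fun a ha hta htab => ?_) (by omega)
  rotate_left
  · have hall : ∀ z, t (a * z) = 0 := fun z => by
      have hz : f * (z * f) ∈ A := ⟨z, sand_apply f f z⟩
      obtain ⟨b1, hb1, b2, hb2, hb⟩ := Submodule.mem_sup.1 (hcodim hz)
      obtain ⟨r, rfl⟩ := Submodule.mem_span_singleton.1 hb1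
      calc t (a * z) = t (f * (a * z)) := by rw [← mul_assoc, (hAmem ha.1).1]
        _ = t (a * z * f) := htsym _ _
        _ = t (a * (f * (z * f))) := by rw [← mul_assoc a f, (hAmem ha.1).2, mul_assoc]
        _ = 0 := by
          rw [← hb, mul_add, map_add, mul_smul_comm, map_smul, (hAmem ha.1).2, hta, smul_zero,
            zero_add, htab b2 hb2]
    apply coeff_injective
    ext g
    have h1 : (a * single g⁻¹ 1).coeff 1 = 0 := hall (single g⁻¹ 1)
    rw [coeff_mul_single_apply, inv_inv, one_mul, mul_one] at h1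
    simpa using h1
  have hKbot : K = ⊥ := by
    refine eq_bot_iff.2 (hcomm.trans (Submodule.span_le.2 ?_))
    rintro _ ⟨a, ha, b, hb, rfl⟩
    simp [hcom a ha b hb]
  have hAk : Module.finrank (Residue hM) A ≤ Nat.card B := by
    have hK0 : Module.finrank (Residue hM) K = 0 := by rw [hKbot, finrank_bot]
    omega
  -- the values at the idempotent
  obtain ⟨ac, d, hd, hsum⟩ := H24.BlockRankOne.exists_decomp hM hB hl
  set Φ : G → ℂ := fun g => ∑ᶠ ψ ∈ B, (ac ψ : ℂ) * (ψ : G → ℂ) g with hΦ
  have hΦc : Cfsg.IsClassFunction G Φ := fun g h => by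
    simp only [hΦ, fun ψ : Cfsg.IrrCharacter G => IsIrr.isClassFunction ψ.2 g h]
  have hcorner := natCast_finrank_corner hM hηi hηη
  choose m hm using fun χ : Cfsg.IrrCharacter G => Decomp.exists_nat_chiLin hηη χ
  set cΦ := chiLin Φ η with hcΦ
  have hval : ∀ χ ∈ B, (m χ : ℂ) = (d χ : ℂ) * cΦ := fun χ hχ => by
    rw [← hm, Decomp.chiLin_congr_regular (p := p) (hM := hM) hηη hηi (IsIrr.isClassFunction χ.2)
      (h' := fun g => (d χ : ℂ) * Φ g) (fun g h => by simp only [hΦc g h]) (hd χ hχ)]
    simp only [hcΦ, chiLin, Finset.mul_sum]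
    exact Finset.sum_congr rfl fun g _ => by ring
  have hout : ∀ χ, χ ∉ B → m χ = 0 := fun χ hχ => by
    refine (Nat.cast_eq_zero (R := ℂ)).1 ?_
    rw [← hm, hη, chiLin_central_mul χ.2 (isCentralElt_blockElem B), omega_blockElem, if_neg hχ,
      zero_mul]
  obtain ⟨z, hz⟩ : ∃ z : ℤ, cΦ = (z : ℂ) := by
    refine ⟨∑ ψ, if ψ ∈ B then ac ψ * (m ψ : ℤ) else 0, ?_⟩
    simp only [hcΦ, hΦ, chiLin, BlockBasic.finsum_mem_eq_sum_ite, Finset.mul_sum]
    rw [Finset.sum_comm]
    push_cast
    refine Finset.sum_congr rfl fun ψ _ => ?_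
    split_ifs
    · rw [← hm ψ, chiLin, Finset.mul_sum]
      exact Finset.sum_congr rfl fun g _ => by ring
    · simp

  have hsumd : ∑ χ ∈ Finset.univ.filter (· ∈ B), d χ ^ 2 = p ^ Cfsg.blockDefect p B := by
    rw [← hsum, finsum_mem_eq_sum_of_inter_support_eq (t := Finset.univ.filter (· ∈ B)) (s := B)
      (f := fun χ => d χ ^ 2) (by simp)]
  have hdimz : (Module.finrank (Residue hM) A : ℤ) = z * z * (p ^ Cfsg.blockDefect p B : ℕ) := by
    refine Int.cast_injective (α := ℂ) ?_
    rw [← hsumd]
    push_cast
    rw [hA, hf, hcorner, Finset.mul_sum, Finset.sum_filter]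
    refine Finset.sum_congr rfl fun χ _ => ?_
    rw [hm]
    split_ifs with hχ
    · rw [hval χ hχ, hz]; ring
    · rw [hout χ hχ]; simp
  have hz0 : z ≠ 0 := fun h0 => by
    rw [h0, zero_mul, zero_mul] at hdimz
    omega
  have hpow : p ^ Cfsg.blockDefect p B ≤ Module.finrank (Residue hM) A := by
    have h1 : 1 ≤ z * z := by nlinarith [sq_pos_of_ne_zero hz0]
    have h2 : (0 : ℤ) ≤ (p ^ Cfsg.blockDefect p B : ℕ) := Int.natCast_nonneg _
    have h3 : ((p ^ Cfsg.blockDefect p B : ℕ) : ℤ) ≤ Module.finrank (Residue hM) A := by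
      rw [hdimz]; nlinarith
    exact_mod_cast h3
  refine le_antisymm ?_ (hpow.trans hAk)
  rw [← hsumd]
  refine le_trans (le_of_eq ?_) (Finset.card_nsmul_le_sum _ (fun χ => d χ ^ 2) 1 fun χ hχ => ?_)
  · rw [smul_eq_mul, mul_one, Nat.card_eq_fintype_card]
    exact Fintype.card_of_subtype _ fun χ => by simp
  · refine Nat.one_le_pow _ _ (Nat.pos_of_ne_zero fun h0 => ?_)
    have h1 := hd χ (Finset.mem_filter.1 hχ).2 1 H24.BlockRankOne.not_dvd_orderOf_one
    rw [h0, Nat.cast_zero, zero_mul] at h1
    exact IsIrr.one_ne_zero χ.2 h1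

end Cfsg.Agent.H80.RankOne
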